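import Cfsg.Agent.CharBase.Ortho
import Cfsg.Agent.Char.Linear

/-!
# Multiplicities of linear characters of elementary abelian 3-subgroups
-/

set_option autoImplicit false

open scoped ComplexConjugate
open Cfsg Cfsg.Agent.CharBase

namespace Cfsg.Agent.Tri3

/-- a primitive cube root of one -/
noncomputable def om : ℂ := Complex.exp (2 * Real.pi * Complex.I / 3)

theorem om_prim : IsPrimitiveRoot om 3 := by
  have := Complex.isPrimitiveRoot_exp 3 (by norm_num)
  unfold om
  convert this using 3
  norm_num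

theorem om_cube : om ^ 3 = 1 := om_prim.pow_eq_one

theorem om_ne_one : om ≠ 1 := om_prim.ne_one (by norm_num)

theorem om_rel : om ^ 2 = -1 - om := by
  have h := om_cube
  have h1 : (om - 1) * (om ^ 2 + om + 1) = 0 := by linear_combination h
  rcases mul_eq_zero.1 h1 with h2 | h2
  · exact absurd (sub_eq_zero.1 h2) om_ne_one
  · linear_combination h2

theorem om_ne_zero : om ≠ 0 := om_prim.ne_zero (by norm_num)

theorem conj_om : conj om = -1 - om := by
  have h1 : om * conj om = 1 := by
    have h := om_prim.norm'_eq_one (by norm_num)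
    rw [Complex.mul_conj, Complex.normSq_eq_norm_sq, h]; simp
  have h2 : om * (conj om - (-1 - om)) = 0 := by
    linear_combination h1 + om_rel
  rcases mul_eq_zero.1 h2 with h3 | h3
  · exact absurd h3 om_ne_zero
  · exact sub_eq_zero.1 h3

/-- the additive character of `ZMod 3` -/
noncomputable def e3 (x : ZMod 3) : ℂ := om ^ x.val

theorem e3_zero : e3 0 = 1 := by simp [e3]
theorem e3_one : e3 1 = om := by
  have : (1 : ZMod 3).val = 1 := rfl
  rw [e3, this, pow_one]
theorem e3_two : e3 2 = -1 - om := by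
  have : (2 : ZMod 3).val = 2 := rfl
  rw [e3, this, om_rel]
theorem e3_neg_one : e3 (-1) = -1 - om := by
  have : (-1 : ZMod 3) = 2 := by decide
  rw [this, e3_two]

theorem e3_add (x y : ZMod 3) : e3 (x + y) = e3 x * e3 y := by
  have h2 := om_rel
  have h : ∀ z : ZMod 3, z = 0 ∨ z = 1 ∨ z = 2 := by decide
  have e01 : (1 + 1 : ZMod 3) = 2 := by decide
  have e02 : (1 + 2 : ZMod 3) = 0 := by decide
  have e03 : (2 + 1 : ZMod 3) = 0 := by decide
  have e04 : (2 + 2 : ZMod 3) = 1 := by decide
  rcases h x with rfl | rfl | rfl <;> rcases h y with rfl | rfl | rfl <;>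
    simp only [zero_add, add_zero, e01, e02, e03, e04, e3_zero, e3_one, e3_two] <;>
    first
      | (ring1)
      | linear_combination h2
      | linear_combination -h2

theorem conj_e3 (x : ZMod 3) : conj (e3 x) = e3 (-x) := by
  have h : ∀ z : ZMod 3, z = 0 ∨ z = 1 ∨ z = 2 := by decide
  have e1 : (-1 : ZMod 3) = 2 := by decide
  have e2 : (-2 : ZMod 3) = 1 := by decide
  have hc := conj_om
  rcases h x with rfl | rfl | rfl
  · rw [neg_zero, e3_zero, map_one]
  · rw [e1, e3_two, e3_one, hc]
  · rw [e2, e3_two, e3_one, map_sub, map_neg, map_one, hc]; ring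

/-- multiplicities are natural numbers -/
theorem exists_mult {G A : Type*} [Group G] [Finite G] [AddCommGroup A] [Fintype A]
    (φ : Multiplicative A →* G) (l : A →+ ZMod 3) {χ : G → ℂ} (hχ : IsCharacter G χ) :
    ∃ n : ℕ, ∑ v : A, χ (φ (Multiplicative.ofAdd v)) * e3 (-(l v)) = (Nat.card A : ℂ) * n := by
  classical
  let f : Multiplicative A →* ℂ :=
    { toFun := fun v => e3 (l v.toAdd)
      map_one' := by simp [e3_zero]
      map_mul' := fun a b => by rw [toAdd_mul, map_add, e3_add] }
  obtain ⟨n, hn⟩ := classInner_natCast (isCharacter_comp hχ φ) (Char.isCharacter_of_hom f)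
  refine ⟨n, ?_⟩
  rw [← hn]
  unfold classInner
  have hA : (Nat.card (Multiplicative A) : ℂ) ≠ 0 := by exact_mod_cast Nat.card_pos.ne'
  have hA' : Nat.card (Multiplicative A) = Nat.card A := rfl
  rw [← hA', mul_inv_cancel_left₀ hA]
  refine Fintype.sum_equiv Multiplicative.ofAdd _ _ fun v => ?_
  change χ (φ (Multiplicative.ofAdd v)) * e3 (-(l v)) = χ (φ (Multiplicative.ofAdd v)) * conj (e3 (l v))
  rw [conj_e3]

end Cfsg.Agent.Tri3
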