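import Cfsg.Agent.Tri3.TI
import Cfsg.Agent.Tri3.Mult
import Cfsg.Agent.H14.ClassMul

/-!
# Class constants in terms of characters
-/

set_option autoImplicit false

open scoped ComplexConjugate
open Cfsg Cfsg.Agent.CharBase

namespace Cfsg.Agent.Tri3

/-- the class multiplication formula with centralizer orders -/
theorem class_const {G : Type*} [Group G] [Finite G] [Fintype (IrrCharacter G)] (a b c : G) :
    (Nat.card G : ℂ) * ∑ χ : IrrCharacter G, (χ : G → ℂ) a * (χ : G → ℂ) b * conj ((χ : G → ℂ) c) / (χ : G → ℂ) 1 =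
      (Nat.card {p : G × G // IsConj a p.1 ∧ IsConj b p.2 ∧ p.1 * p.2 = c} : ℂ) *
        (Nat.card (Subgroup.centralizer ({a} : Set G)) : ℂ) * (Nat.card (Subgroup.centralizer ({b} : Set G)) : ℂ) := by
  have h := H14.ClassMul.card_mul_eq a b c
  have ha := card_isConj_mul_card_centralizer a
  have hb := card_isConj_mul_card_centralizer b
  have hg : (Nat.card G : ℂ) ≠ 0 := by exact_mod_cast Nat.card_pos.ne'
  have ha' : (Nat.card {x : G // IsConj a x} : ℂ) * (Nat.card (Subgroup.centralizer ({a} : Set G)) : ℂ) = Nat.card G := by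
    exact_mod_cast ha
  have hb' : (Nat.card {x : G // IsConj b x} : ℂ) * (Nat.card (Subgroup.centralizer ({b} : Set G)) : ℂ) = Nat.card G := by
    exact_mod_cast hb
  rw [h]
  set S := ∑ χ : IrrCharacter G, (χ : G → ℂ) a * (χ : G → ℂ) b * conj ((χ : G → ℂ) c) / (χ : G → ℂ) 1
  set x := (Nat.card {x : G // IsConj a x} : ℂ)
  set y := (Nat.card {x : G // IsConj b x} : ℂ)
  set p := (Nat.card (Subgroup.centralizer ({a} : Set G)) : ℂ)
  set q := (Nat.card (Subgroup.centralizer ({b} : Set G)) : ℂ)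
  have : x * y / (Nat.card G : ℂ) * S * p * q = (x * p) * (y * q) / (Nat.card G : ℂ) * S := by ring
  rw [this, ha', hb']
  field_simp

end Cfsg.Agent.Tri3
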