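import Mathlib

/-!
# The group `3³ : 2²` in coordinates
-/

set_option autoImplicit false

namespace Cfsg.Agent.Tri3

/-- the elementary abelian group of order 27 -/
abbrev A3 := ZMod 3 × ZMod 3 × ZMod 3

/-- the even sign changes -/
def sg : Fin 4 → A3 → A3
  | 0, v => v
  | 1, v => (-v.1, -v.2.1, v.2.2)
  | 2, v => (-v.1, v.2.1, -v.2.2)
  | 3, v => (v.1, -v.2.1, -v.2.2)

theorem pow_val_add {K : Type*} [Group K] {a : K} (ha : a ^ 3 = 1) (x y : ZMod 3) :
    a ^ (x + y).val = a ^ x.val * a ^ y.val := by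
  rw [ZMod.val_add, ← pow_add]
  exact (pow_eq_pow_mod _ ha).symm

theorem pow_val_neg {K : Type*} [Group K] {a : K} (ha : a ^ 3 = 1) (x : ZMod 3) :
    a ^ (-x).val = (a ^ x.val)⁻¹ := by
  rw [eq_inv_iff_mul_eq_one, ← pow_val_add ha]
  simp

section

variable {K : Type*} [Group K] {a b c s t : K}

/-- the homomorphism `A3 → K` given by three commuting elements of order 3 -/
def F (ha : a ^ 3 = 1) (hb : b ^ 3 = 1) (hc : c ^ 3 = 1) (hab : a * b = b * a) (hac : a * c = c * a)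
    (hbc : b * c = c * b) : Multiplicative A3 →* K where
  toFun v := a ^ v.toAdd.1.val * b ^ v.toAdd.2.1.val * c ^ v.toAdd.2.2.val
  map_one' := by simp
  map_mul' v w := by
    have h1 : ∀ i j : ℕ, a ^ i * b ^ j = b ^ j * a ^ i := fun i j => (show Commute a b from hab).pow_pow i j
    have h2 : ∀ i j : ℕ, a ^ i * c ^ j = c ^ j * a ^ i := fun i j => (show Commute a c from hac).pow_pow i j
    have h3 : ∀ i j : ℕ, b ^ i * c ^ j = c ^ j * b ^ i := fun i j => (show Commute b c from hbc).pow_pow i j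
    simp only [toAdd_mul, Prod.fst_add, Prod.snd_add]
    rw [pow_val_add ha, pow_val_add hb, pow_val_add hc]
    generalize (Multiplicative.toAdd v).1.val = i1
    generalize (Multiplicative.toAdd v).2.1.val = i2
    generalize (Multiplicative.toAdd v).2.2.val = i3
    generalize (Multiplicative.toAdd w).1.val = j1
    generalize (Multiplicative.toAdd w).2.1.val = j2
    generalize (Multiplicative.toAdd w).2.2.val = j3
    calc a ^ i1 * a ^ j1 * (b ^ i2 * b ^ j2) * (c ^ i3 * c ^ j3)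
        = a ^ i1 * (a ^ j1 * b ^ i2) * (b ^ j2 * c ^ i3) * c ^ j3 := by group
      _ = a ^ i1 * b ^ i2 * (a ^ j1 * c ^ i3) * b ^ j2 * c ^ j3 := by rw [h1 j1 i2, h3 j2 i3]; group
      _ = _ := by rw [h2 j1 i3]; group

/-- the four complement elements -/
def E (s t : K) : Fin 4 → K
  | 0 => 1
  | 1 => s
  | 2 => t
  | 3 => s * t

theorem E_mul (hs : s * s = 1) (ht : t * t = 1) (hst : s * t = t * s) (k l : Fin 4) :
    ∃ m, E s t k * E s t l = E s t m := by
  have e1 : s * (s * t) = t := by rw [← mul_assoc, hs, one_mul]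
  have e2 : t * (s * t) = s := by rw [hst, ← mul_assoc, ht, one_mul]
  have e3 : s * t * s = t := by rw [hst, mul_assoc, hs, mul_one]
  have e4 : s * t * t = s := by rw [mul_assoc, ht, mul_one]
  have e5 : s * t * (s * t) = 1 := by rw [← mul_assoc, e3, ht]
  fin_cases k <;> fin_cases l
  · exact ⟨0, by simp [E]⟩
  · exact ⟨1, by simp [E]⟩
  · exact ⟨2, by simp [E]⟩
  · exact ⟨3, by simp [E]⟩
  · exact ⟨1, by simp [E]⟩
  · exact ⟨0, by simp [E, hs]⟩
  · exact ⟨3, by simp [E]⟩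
  · exact ⟨2, by simp [E, e1]⟩
  · exact ⟨2, by simp [E]⟩
  · exact ⟨3, by simp [E, hst]⟩
  · exact ⟨0, by simp [E, ht]⟩
  · exact ⟨1, by simp [E, e2]⟩
  · exact ⟨3, by simp [E]⟩
  · exact ⟨2, by simp [E, e3]⟩
  · exact ⟨1, by simp [E, e4]⟩
  · exact ⟨0, by simp [E, e5]⟩

theorem E_sq (hs : s * s = 1) (ht : t * t = 1) (hst : s * t = t * s) (k : Fin 4) :
    E s t k * E s t k = 1 := by
  have e3 : s * t * s = t := by rw [hst, mul_assoc, hs, mul_one]
  have e5 : s * t * (s * t) = 1 := by rw [← mul_assoc, e3, ht]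
  fin_cases k
  · simp [E]
  · simp [E, hs]
  · simp [E, ht]
  · simp [E, e5]

variable (ha : a ^ 3 = 1) (hb : b ^ 3 = 1) (hc : c ^ 3 = 1) (hab : a * b = b * a) (hac : a * c = c * a)
    (hbc : b * c = c * b)

theorem F_apply (x y z : ZMod 3) : F ha hb hc hab hac hbc (Multiplicative.ofAdd (x, y, z)) =
    a ^ x.val * b ^ y.val * c ^ z.val := rfl

theorem F_conj (sa : s * a * s⁻¹ = a⁻¹) (sb : s * b * s⁻¹ = b⁻¹) (sc : s * c * s⁻¹ = c)
    (ta : t * a * t⁻¹ = a⁻¹) (tb : t * b * t⁻¹ = b) (tc : t * c * t⁻¹ = c⁻¹) (k : Fin 4) (v : A3) :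
    E s t k * F ha hb hc hab hac hbc (Multiplicative.ofAdd v) * (E s t k)⁻¹ =
      F ha hb hc hab hac hbc (Multiplicative.ofAdd (sg k v)) := by
  obtain ⟨x, y, z⟩ := v
  have key : ∀ (r a' b' c' : K), r * a * r⁻¹ = a' → r * b * r⁻¹ = b' → r * c * r⁻¹ = c' →
      r * (a ^ x.val * b ^ y.val * c ^ z.val) * r⁻¹ = a' ^ x.val * b' ^ y.val * c' ^ z.val := by
    intro r a' b' c' h1 h2 h3
    have : r * (a ^ x.val * b ^ y.val * c ^ z.val) * r⁻¹ =
        (r * a ^ x.val * r⁻¹) * (r * b ^ y.val * r⁻¹) * (r * c ^ z.val * r⁻¹) := by group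
    rw [this, ← conj_pow, ← conj_pow, ← conj_pow, h1, h2, h3]
  have hi : ∀ (d : K) (hd : d ^ 3 = 1) (w : ZMod 3), d⁻¹ ^ w.val = d ^ (-w).val := by
    intro d hd w
    rw [pow_val_neg hd, inv_pow]
  fin_cases k
  · change (1 : K) * _ * (1 : K)⁻¹ = _
    simp [sg]
  · change s * _ * s⁻¹ = F ha hb hc hab hac hbc (Multiplicative.ofAdd (-x, -y, z))
    rw [F_apply, F_apply, key s _ _ _ sa sb sc, hi a ha, hi b hb]
  · change t * _ * t⁻¹ = F ha hb hc hab hac hbc (Multiplicative.ofAdd (-x, y, -z))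
    rw [F_apply, F_apply, key t _ _ _ ta tb tc, hi a ha, hi c hc]
  · change (s * t) * _ * (s * t)⁻¹ = F ha hb hc hab hac hbc (Multiplicative.ofAdd (x, -y, -z))
    have k1 : s * t * a * (s * t)⁻¹ = a := by
      have : s * t * a * (s * t)⁻¹ = s * (t * a * t⁻¹) * s⁻¹ := by group
      rw [this, ta]
      have : s * a⁻¹ * s⁻¹ = (s * a * s⁻¹)⁻¹ := by group
      rw [this, sa, inv_inv]
    have k2 : s * t * b * (s * t)⁻¹ = b⁻¹ := by
      have : s * t * b * (s * t)⁻¹ = s * (t * b * t⁻¹) * s⁻¹ := by group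
      rw [this, tb, sb]
    have k3 : s * t * c * (s * t)⁻¹ = c⁻¹ := by
      have : s * t * c * (s * t)⁻¹ = s * (t * c * t⁻¹) * s⁻¹ := by group
      rw [this, tc]
      have : s * c⁻¹ * s⁻¹ = (s * c * s⁻¹)⁻¹ := by group
      rw [this, sc]
    rw [F_apply, F_apply, key (s * t) _ _ _ k1 k2 k3, hi b hb, hi c hc]

include ha hb hc hab hac hbc in
theorem exists_form (hs : s * s = 1) (ht : t * t = 1) (hst : s * t = t * s)
    (sa : s * a * s⁻¹ = a⁻¹) (sb : s * b * s⁻¹ = b⁻¹) (sc : s * c * s⁻¹ = c)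
    (ta : t * a * t⁻¹ = a⁻¹) (tb : t * b * t⁻¹ = b) (tc : t * c * t⁻¹ = c⁻¹)
    (htop : Subgroup.closure ({a, b, c, s, t} : Set K) = ⊤) (h : K) :
    ∃ (v : A3) (k : Fin 4), h = F ha hb hc hab hac hbc (Multiplicative.ofAdd v) * E s t k := by
  have hmem : h ∈ Subgroup.closure ({a, b, c, s, t} : Set K) := by rw [htop]; trivial
  have hmul : ∀ x y : K, (∃ (v : A3) (k : Fin 4), x = F ha hb hc hab hac hbc (Multiplicative.ofAdd v) * E s t k) →
      (∃ (v : A3) (k : Fin 4), y = F ha hb hc hab hac hbc (Multiplicative.ofAdd v) * E s t k) →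
      ∃ (v : A3) (k : Fin 4), x * y = F ha hb hc hab hac hbc (Multiplicative.ofAdd v) * E s t k := by
    rintro x y ⟨v, k, rfl⟩ ⟨w, l, rfl⟩
    obtain ⟨m, hm⟩ := E_mul hs ht hst k l
    refine ⟨v + sg k w, m, ?_⟩
    rw [← hm, ofAdd_add, map_mul, ← F_conj ha hb hc hab hac hbc sa sb sc ta tb tc k w]
    group
  induction hmem using Subgroup.closure_induction with
  | mem x hx =>
    simp only [Set.mem_insert_iff, Set.mem_singleton_iff] at hx
    rcases hx with rfl | rfl | rfl | rfl | rfl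
    · exact ⟨(1, 0, 0), 0, by rw [F_apply]; simp [E, ZMod.val_one]⟩
    · exact ⟨(0, 1, 0), 0, by rw [F_apply]; simp [E, ZMod.val_one]⟩
    · exact ⟨(0, 0, 1), 0, by rw [F_apply]; simp [E, ZMod.val_one]⟩
    · exact ⟨0, 1, by simp [E]⟩
    · exact ⟨0, 2, by simp [E]⟩
  | one => exact ⟨0, 0, by simp [E]⟩
  | mul x y _ _ hx hy => exact hmul x y hx hy
  | inv x _ hx =>
    obtain ⟨v, k, rfl⟩ := hx
    have hE := E_sq hs ht hst k
    have hE' : (E s t k)⁻¹ = E s t k := inv_eq_of_mul_eq_one_right hE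
    refine ⟨-(sg k v), k, ?_⟩
    rw [ofAdd_neg, map_inv, ← F_conj ha hb hc hab hac hbc sa sb sc ta tb tc k v]
    simp only [mul_inv_rev, hE', mul_assoc, hE, mul_one]

end

end Cfsg.Agent.Tri3
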