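import Cfsg.Agent.CharBase.Ortho
import Cfsg.Agent.Char.Linear

/-!
# Determinant and trace of an involution
-/

set_option autoImplicit false

open scoped ComplexConjugate
open Cfsg Cfsg.Agent.CharBase

namespace Cfsg.Agent.Tri3

theorem multiset_pm (s : Multiset ℂ) (h : ∀ z ∈ s, z = 1 ∨ z = -1) :
    ∃ k : ℕ, s.sum = s.card - 2 * k ∧ s.prod = (-1) ^ k := by
  induction s using Multiset.induction_on with
  | empty => exact ⟨0, by simp⟩
  | cons a s ih =>
    obtain ⟨k, hk1, hk2⟩ := ih (fun z hz => h z (Multiset.mem_cons_of_mem hz))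
    rcases h a (Multiset.mem_cons_self a s) with rfl | rfl
    · refine ⟨k, ?_, ?_⟩
      · rw [Multiset.sum_cons, hk1, Multiset.card_cons]; push_cast; ring
      · rw [Multiset.prod_cons, hk2, one_mul]
    · refine ⟨k + 1, ?_, ?_⟩
      · rw [Multiset.sum_cons, hk1, Multiset.card_cons]; push_cast; ring
      · rw [Multiset.prod_cons, hk2]; ring

/-- An involution of determinant one. -/
theorem exists_four {n : ℕ} (f : Module.End ℂ (Fin n → ℂ)) (hf : f * f = 1) (hdet : LinearMap.det f = 1) :
    ∃ k : ℕ, LinearMap.trace ℂ _ f = n - 4 * k := by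
  have hsp := IsAlgClosed.splits (LinearMap.charpoly f)
  have hcard : (LinearMap.charpoly f).roots.card = n := by
    have := hsp.natDegree_eq_card_roots
    rw [← this, LinearMap.charpoly_natDegree]; simp
  have hroots : ∀ z ∈ (LinearMap.charpoly f).roots, z = 1 ∨ z = -1 := by
    intro z hz
    have h1 : z ∈ spectrum ℂ f := by
      rw [Module.End.mem_spectrum_iff_isRoot_charpoly]
      exact (Polynomial.mem_roots (LinearMap.charpoly_monic _).ne_zero).mp hz
    have h2 := spectrum.pow_mem_pow f 2 h1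
    rw [pow_two f, hf] at h2
    rcases Nat.eq_zero_or_pos n with h0 | h0
    · subst h0
      exfalso
      rw [Multiset.card_eq_zero] at hcard
      rw [hcard] at hz; simp at hz
    · have : Nonempty (Fin n) := ⟨⟨0, h0⟩⟩
      rw [spectrum.one_eq] at h2
      have h3 : z ^ 2 = 1 := by simpa using h2
      have h4 : (z - 1) * (z + 1) = 0 := by linear_combination h3
      rcases mul_eq_zero.1 h4 with h5 | h5
      · left; linear_combination h5
      · right; linear_combination h5
  obtain ⟨k, hk1, hk2⟩ := multiset_pm _ hroots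
  have htr : LinearMap.trace ℂ _ f = (LinearMap.charpoly f).roots.sum :=
    Module.End.trace_eq_sum_roots_charpoly_of_splits hsp
  have hd : LinearMap.det f = (LinearMap.charpoly f).roots.prod :=
    Module.End.det_eq_prod_roots_charpoly_of_splits hsp
  rw [hdet, hk2] at hd
  rw [hcard] at hk1
  rcases Nat.even_or_odd k with h | h
  · obtain ⟨j, hj⟩ := h
    refine ⟨j, ?_⟩
    rw [htr, hk1, hj]; push_cast; ring
  · rw [h.neg_one_pow] at hd
    norm_num at hd

/-- If every linear character is trivial then `χ(t) ≡ χ(1)` mod 4 for involutions `t`. -/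
theorem exists_four_char {G : Type*} [Group G] (hlin : ∀ f : G →* ℂ, ∀ g, f g = 1) {χ : G → ℂ} (hχ : IsCharacter G χ)
    {t : G} (ht : t * t = 1) : ∃ k : ℕ, χ t = χ 1 - 4 * k := by
  obtain ⟨n, ρ, rfl⟩ := hχ
  have h1 : ρ t * ρ t = 1 := by rw [← map_mul, ht, map_one]
  have h2 : LinearMap.det (ρ t) = 1 := by
    let f : G →* ℂ := (LinearMap.det : Module.End ℂ (Fin n → ℂ) →* ℂ).comp ρ
    exact hlin f t
  obtain ⟨k, hk⟩ := exists_four (ρ t) h1 h2
  refine ⟨k, ?_⟩
  rw [Representation.char_one]
  change LinearMap.trace ℂ _ (ρ t) = _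
  rw [hk]
  simp

end Cfsg.Agent.Tri3
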