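import Cfsg.Agent.Tri3.Mult

/-!
# Multiplicities of linear characters of `A : 2`
-/

set_option autoImplicit false

open scoped ComplexConjugate
open Cfsg Cfsg.Agent.CharBase

namespace Cfsg.Agent.Tri3

open Multiplicative

/-- the homomorphism from the group of order two -/
def hom2 {M : Type*} [Monoid M] (g : M) (hg : g * g = 1) : Multiplicative (ZMod 2) →* M where
  toFun x := if x.toAdd = 0 then 1 else g
  map_one' := by simp
  map_mul' x y := by
    have h : ∀ z : ZMod 2, z = 0 ∨ z = 1 := by decide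
    have h1 : (1 : ZMod 2) ≠ 0 := by decide
    have h2 : (1 : ZMod 2) + 1 = 0 := by decide
    rw [toAdd_mul]
    rcases h x.toAdd with hx | hx <;> rcases h y.toAdd with hy | hy <;> rw [hx, hy] <;> simp [h1, h2, hg]

theorem hom2_zero {M : Type*} [Monoid M] (g : M) (hg : g * g = 1) : hom2 g hg (ofAdd 0) = 1 := by
  simp [hom2]

theorem hom2_one {M : Type*} [Monoid M] (g : M) (hg : g * g = 1) : hom2 g hg (ofAdd 1) = g := by
  have h1 : (1 : ZMod 2) ≠ 0 := by decide
  simp [hom2, h1]

theorem mult2_cases (x : Multiplicative (ZMod 2)) : x = ofAdd 0 ∨ x = ofAdd 1 := by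
  have h : ∀ z : ZMod 2, z = 0 ∨ z = 1 := by decide
  rcases h x.toAdd with hx | hx
  · left; rw [← hx]; rfl
  · right; rw [← hx]; rfl

/-- multiplicities for `A : 2` are natural numbers -/
theorem exists_mult_semi {G A : Type*} [Group G] [Finite G] [AddCommGroup A] [Fintype A]
    (φ : Multiplicative A →* G) (t : G) (ht : t * t = 1) (θ : A → A) (hθ : ∀ a b, θ (a + b) = θ a + θ b)
    (hθθ : ∀ a, θ (θ a) = a)
    (hc : ∀ v, t * φ (ofAdd v) * t⁻¹ = φ (ofAdd (θ v))) (l : A →+ ZMod 3) (hl : ∀ v, l (θ v) = l v)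
    (s : ℂ) (hs : s = 1 ∨ s = -1) {χ : G → ℂ} (hχ : IsCharacter G χ) :
    ∃ n : ℕ, ∑ v : A, χ (φ (ofAdd v)) * e3 (-(l v)) + s * ∑ v : A, χ (φ (ofAdd v) * t) * e3 (-(l v)) =
      (2 * Nat.card A : ℂ) * n := by
  classical
  let Θ : MulAut (Multiplicative A) :=
    { toFun := fun v => ofAdd (θ v.toAdd)
      invFun := fun v => ofAdd (θ v.toAdd)
      left_inv := fun v => by simp [hθθ]
      right_inv := fun v => by simp [hθθ]
      map_mul' := fun v w => by simp [toAdd_mul, hθ, ofAdd_add] }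
  have hΘ : Θ * Θ = 1 := by ext v; simp [Θ, hθθ]
  let ρ : Multiplicative (ZMod 2) →* MulAut (Multiplicative A) := hom2 Θ hΘ
  let ψ : Multiplicative (ZMod 2) →* G := hom2 t ht
  let Φ : Multiplicative A ⋊[ρ] Multiplicative (ZMod 2) →* G := SemidirectProduct.lift φ ψ (by
    intro g
    rcases mult2_cases g with rfl | rfl
    · simp only [ρ, ψ, hom2_zero]
      ext v; simp
    · simp only [ρ, ψ, hom2_one]
      ext v
      change φ (ofAdd (θ v)) = t * φ (ofAdd v) * t⁻¹
      rw [hc])
  have hss : s * s = 1 := by rcases hs with rfl | rfl <;> norm_num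
  let sg : Multiplicative (ZMod 2) →* ℂ := hom2 s hss
  let lam : Multiplicative A ⋊[ρ] Multiplicative (ZMod 2) →* ℂ :=
    { toFun := fun x => e3 (l x.left.toAdd) * sg x.right
      map_one' := by simp [e3_zero]
      map_mul' := fun x y => by
        have h1 : l ((ρ x.right) y.left).toAdd = l y.left.toAdd := by
          rcases mult2_cases x.right with h | h
          · rw [h]; simp only [ρ, hom2_zero]; rfl
          · rw [h]; simp only [ρ, hom2_one]; exact hl _
        rw [SemidirectProduct.mul_left, SemidirectProduct.mul_right, toAdd_mul, map_add, h1, e3_add, map_mul]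
        ring }
  have : Finite (Multiplicative A ⋊[ρ] Multiplicative (ZMod 2)) :=
    Finite.of_equiv _ SemidirectProduct.equivProd.symm
  have := Fintype.ofFinite (Multiplicative A ⋊[ρ] Multiplicative (ZMod 2))
  obtain ⟨n, hn⟩ := classInner_natCast (isCharacter_comp hχ Φ) (Char.isCharacter_of_hom lam)
  refine ⟨n, ?_⟩
  have hcard : (Nat.card (Multiplicative A ⋊[ρ] Multiplicative (ZMod 2)) : ℂ) = 2 * Nat.card A := by
    have h1 : Nat.card (Multiplicative A ⋊[ρ] Multiplicative (ZMod 2)) = Nat.card A * 2 := by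
      rw [Nat.card_congr SemidirectProduct.equivProd, Nat.card_prod]
      have : Nat.card (Multiplicative (ZMod 2)) = 2 := by
        change Nat.card (ZMod 2) = 2
        simp
      rw [this]; rfl
    rw [h1]; push_cast; ring
  rw [← hn]
  unfold classInner
  have hne : (2 * Nat.card A : ℂ) ≠ 0 := by
    rw [← hcard]; exact_mod_cast Nat.card_pos.ne'
  rw [hcard, mul_inv_cancel_left₀ hne]
  have hsum : ∑ x : Multiplicative A ⋊[ρ] Multiplicative (ZMod 2), (χ ∘ Φ) x * conj (lam x) =
      ∑ p : Multiplicative A × Multiplicative (ZMod 2), χ (φ p.1 * ψ p.2) * (e3 (-(l p.1.toAdd)) * conj (sg p.2)) := by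
    refine Fintype.sum_equiv SemidirectProduct.equivProd _ _ fun x => ?_
    change χ (φ x.left * ψ x.right) * conj (e3 (l x.left.toAdd) * sg x.right) = _
    rw [map_mul, conj_e3]; rfl
  rw [hsum, Fintype.sum_prod_type, Finset.mul_sum, ← Finset.sum_add_distrib]
  refine Fintype.sum_equiv ofAdd _ _ fun v => ?_
  have h2 : ∑ y : Multiplicative (ZMod 2), χ (φ (ofAdd v) * ψ y) * (e3 (-(l (ofAdd v).toAdd)) * conj (sg y)) =
      χ (φ (ofAdd v) * ψ (ofAdd 0)) * (e3 (-(l v)) * conj (sg (ofAdd 0))) +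
      χ (φ (ofAdd v) * ψ (ofAdd 1)) * (e3 (-(l v)) * conj (sg (ofAdd 1))) := by
    have : (Finset.univ : Finset (Multiplicative (ZMod 2))) = {ofAdd 0, ofAdd 1} := by decide
    rw [this, Finset.sum_pair (by decide)]; rfl
  rw [h2]
  simp only [ψ, sg, hom2_zero, hom2_one, mul_one, map_one]
  have hcs : conj s = s := by rcases hs with rfl | rfl <;> simp
  rw [hcs]
  ring

end Cfsg.Agent.Tri3
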