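import Cfsg.Agent.Tri3.Tri

/-!
# TI elementary abelian 3-subgroups: fusion, centralizers and class constants
-/

set_option autoImplicit false

namespace Cfsg.Agent.Tri3

open Multiplicative

/-- A subgroup `H` of `G` which is a split extension of an elementary abelian 3-group `A` (written additively) by the
elements `e i`, acting on `A` by `sg i`, with `A` a TI subgroup with normalizer `H` containing the centralizers of its
non-identity elements. -/
structure TI {G : Type*} [Group G] (H : Subgroup G) {A I : Type*} [AddCommGroup A] (sg : I → A → A) where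
  φ : Multiplicative A →* G
  inj : Function.Injective φ
  e : I → G
  memφ : ∀ v, φ v ∈ H
  meme : ∀ i, e i ∈ H
  cj : ∀ i (v : A), e i * φ (ofAdd v) * (e i)⁻¹ = φ (ofAdd (sg i v))
  ex : ∀ h ∈ H, ∃ (v : A) (i : I), h = φ (ofAdd v) * e i
  cube : ∀ v : A, v + v + v = 0
  mem_of_cube : ∀ h ∈ H, h ^ 3 = 1 → ∃ v : A, h = φ (ofAdd v)
  nor : Subgroup.normalizer (φ.range : Set G) ≤ H
  cen : ∀ v : A, v ≠ 0 → Subgroup.centralizer ({φ (ofAdd v)} : Set G) ≤ H
  sg_inj : ∀ i j, (∀ v, sg i v = sg j v) → i = j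

namespace TI

variable {G : Type*} [Group G] {H : Subgroup G} {A I : Type*} [AddCommGroup A] {sg : I → A → A} (D : TI H sg)

/-- element of `T` with given coordinates -/
def f (v : A) : G := D.φ (ofAdd v)

theorem f_add (v w : A) : D.f (v + w) = D.f v * D.f w := by
  unfold f; rw [ofAdd_add, map_mul]

theorem f_zero : D.f 0 = 1 := by unfold f; rw [ofAdd_zero, map_one]

theorem f_neg (v : A) : D.f (-v) = (D.f v)⁻¹ := by unfold f; rw [ofAdd_neg, map_inv]

theorem f_comm (v w : A) : D.f v * D.f w = D.f w * D.f v := by rw [← f_add, ← f_add, add_comm]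

theorem f_inj {v w : A} (h : D.f v = D.f w) : v = w := ofAdd.injective (D.inj h)

theorem f_ne_one {v : A} (h : v ≠ 0) : D.f v ≠ 1 := by
  intro h1; rw [← D.f_zero] at h1; exact h (D.f_inj h1)

theorem f_cube (v : A) : D.f v ^ 3 = 1 := by
  rw [pow_succ, pow_two, ← f_add, ← f_add, D.cube, f_zero]

theorem f_mem (v : A) : D.f v ∈ H := D.memφ _

theorem f_conj (i : I) (v : A) : D.e i * D.f v * (D.e i)⁻¹ = D.f (sg i v) := D.cj i v

theorem mem_of_cube' {h : G} (hh : h ∈ H) (h3 : h ^ 3 = 1) : ∃ v, h = D.f v := D.mem_of_cube h hh h3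

theorem cen' {v : A} (hv : v ≠ 0) {g : G} (hg : g * D.f v = D.f v * g) : g ∈ H := by
  apply D.cen v hv
  rw [Subgroup.mem_centralizer_iff]
  intro h hh
  rw [Set.mem_singleton_iff] at hh
  subst hh
  exact hg.symm

theorem ti [Finite G] {v w : A} (hv : v ≠ 0) {g : G} (hg : g * D.f v * g⁻¹ = D.f w) : g ∈ H := by
  have hw : w ≠ 0 := by
    intro h
    rw [h, f_zero] at hg
    apply D.f_ne_one hv
    calc D.f v = g⁻¹ * (g * D.f v * g⁻¹) * g := by group
      _ = 1 := by rw [hg]; group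
  apply D.nor
  apply Subgroup.mem_normalizer_fintype
  rintro _ ⟨u, rfl⟩
  change g * D.f u.toAdd * g⁻¹ ∈ D.φ.range
  obtain ⟨x, hx⟩ := D.mem_of_cube' (h := g * D.f u.toAdd * g⁻¹) (D.cen' hw (by
    rw [← hg]
    have h := D.f_comm u.toAdd v
    calc g * D.f u.toAdd * g⁻¹ * (g * D.f v * g⁻¹) = g * (D.f u.toAdd * D.f v) * g⁻¹ := by group
      _ = g * (D.f v * D.f u.toAdd) * g⁻¹ := by rw [h]
      _ = _ := by group)) (by rw [conj_pow, D.f_cube]; group)
  rw [hx]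
  exact ⟨_, rfl⟩

/-- fusion in `T` is controlled by `H` -/
theorem isConj_iff_sg [Finite G] {v w : A} (hv : v ≠ 0) : IsConj (D.f v) (D.f w) ↔ ∃ i, sg i v = w := by
  constructor
  · intro h
    obtain ⟨g, hg⟩ := isConj_iff.1 h
    obtain ⟨u, i, rfl⟩ := D.ex g (D.ti hv hg)
    refine ⟨i, D.f_inj ?_⟩
    rw [← hg, ← D.f_conj]
    change D.e i * D.f v * (D.e i)⁻¹ = D.f u * D.e i * D.f v * (D.f u * D.e i)⁻¹
    have h1 : D.f u * D.e i * D.f v * (D.f u * D.e i)⁻¹ = D.f u * (D.e i * D.f v * (D.e i)⁻¹) * (D.f u)⁻¹ := by group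
    rw [h1, D.f_conj, D.f_comm]
    group
  · rintro ⟨i, rfl⟩
    rw [isConj_iff]
    exact ⟨D.e i, D.f_conj i v⟩

theorem eq_of_mul_eq {u u' : A} {i i' : I} (h : D.f u * D.e i = D.f u' * D.e i') : u = u' ∧ i = i' := by
  have hi : i = i' := by
    apply D.sg_inj
    intro v
    apply D.f_inj
    have h1 : ∀ (u : A) (i : I), D.f u * D.e i * D.f v * (D.f u * D.e i)⁻¹ = D.f (sg i v) := by
      intro u i
      have h1 : D.f u * D.e i * D.f v * (D.f u * D.e i)⁻¹ = D.f u * (D.e i * D.f v * (D.e i)⁻¹) * (D.f u)⁻¹ := by group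
      rw [h1, D.f_conj, D.f_comm]
      group
    rw [← h1 u i, h, h1 u' i']
  subst hi
  exact ⟨D.f_inj (mul_right_cancel h), rfl⟩

include D in
theorem card_H : Nat.card H = Nat.card A * Nat.card I := by
  rw [← Nat.card_prod]
  symm
  apply Nat.card_congr
  refine Equiv.ofBijective (fun p => ⟨D.f p.1 * D.e p.2, H.mul_mem (D.f_mem _) (D.meme _)⟩) ⟨?_, ?_⟩
  · rintro ⟨u, i⟩ ⟨u', i'⟩ h
    obtain ⟨h1, h2⟩ := D.eq_of_mul_eq (congrArg Subtype.val h)
    simp only at h1 h2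
    rw [h1, h2]
  · rintro ⟨h, hh⟩
    obtain ⟨v, i, rfl⟩ := D.ex h hh
    exact ⟨(v, i), rfl⟩

theorem card_centralizer {v : A} (hv : v ≠ 0) :
    Nat.card (Subgroup.centralizer ({D.f v} : Set G)) = Nat.card A * Nat.card {i : I // sg i v = v} := by
  rw [← Nat.card_prod]
  symm
  apply Nat.card_congr
  have hconj : ∀ (u : A) (i : I), D.f u * D.e i * D.f v * (D.f u * D.e i)⁻¹ = D.f (sg i v) := by
    intro u i
    have h1 : D.f u * D.e i * D.f v * (D.f u * D.e i)⁻¹ = D.f u * (D.e i * D.f v * (D.e i)⁻¹) * (D.f u)⁻¹ := by group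
    rw [h1, D.f_conj, D.f_comm]
    group
  refine Equiv.ofBijective (fun p => ⟨D.f p.1 * D.e p.2.1, ?_⟩) ⟨?_, ?_⟩
  · rw [Subgroup.mem_centralizer_iff]
    intro h hh
    rw [Set.mem_singleton_iff] at hh
    subst hh
    have := hconj p.1 p.2.1
    rw [p.2.2, mul_inv_eq_iff_eq_mul] at this
    exact this.symm
  · rintro ⟨u, i⟩ ⟨u', i'⟩ h
    obtain ⟨h1, h2⟩ := D.eq_of_mul_eq (congrArg Subtype.val h)
    simp only at h1 h2
    rw [h1, Subtype.ext h2]
  · rintro ⟨h, hh⟩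
    have h1 : h * D.f v = D.f v * h := by
      rw [Subgroup.mem_centralizer_iff] at hh
      exact (hh _ rfl).symm
    obtain ⟨u, i, hui⟩ := D.ex h (D.cen' hv h1)
    refine ⟨(u, ⟨i, ?_⟩), ?_⟩
    · apply D.f_inj
      rw [← hconj u i]
      change h = D.f u * D.e i at hui
      rw [← hui, h1]; group
    · exact Subtype.ext hui.symm

/-- triples of elements of order 3 whose product is in `T`, not all conjugate, lie in `T` -/
theorem triple [Finite G] {u w q : A} (hq : q ≠ 0) (huw : ¬ ((∃ i, sg i (-q) = u) ∧ ∃ i, sg i (-q) = w))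
    {x y : G} (hx : IsConj (D.f u) x) (hy : IsConj (D.f w) y) (hxy : x * y = D.f q) :
    ∃ a b, x = D.f a ∧ y = D.f b := by
  have hx3 : x ^ 3 = 1 := by
    obtain ⟨g, rfl⟩ := isConj_iff.1 hx
    rw [conj_pow, D.f_cube]; group
  have hy3 : y ^ 3 = 1 := by
    obtain ⟨g, rfl⟩ := isConj_iff.1 hy
    rw [conj_pow, D.f_cube]; group
  have hnq : -q ≠ 0 := neg_ne_zero.2 hq
  have hXY : D.f (-q) * x = y⁻¹ := by
    rw [D.f_neg, ← hxy]; group
  have hXY3 : (D.f (-q) * x) ^ 3 = 1 := by rw [hXY, inv_pow, hy3, inv_one]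
  have hxT : ∃ a, x = D.f a := by
    rcases dichotomy (D.f_cube (-q)) hx3 hXY3 with ⟨h1, h2⟩ | ⟨r, -, hr1, hr3, hr, hc, hc3⟩
    · exfalso
      rw [hXY, inv_inv] at h2
      apply huw
      exact ⟨(D.isConj_iff_sg hnq).1 (h1.trans hx.symm), (D.isConj_iff_sg hnq).1 (h2.trans hy.symm)⟩
    · obtain ⟨r0, rfl⟩ := D.mem_of_cube' (D.cen' hnq hr.symm) hr3
      have hr0 : r0 ≠ 0 := by
        intro h; rw [h, D.f_zero] at hr1; exact hr1 rfl
      obtain ⟨r1, hr1'⟩ := D.mem_of_cube' (D.cen' hr0 hc.symm) hc3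
      exact D.mem_of_cube' (D.ti hr0 hr1') hx3
  obtain ⟨a, ha⟩ := hxT
  refine ⟨a, q - a, ha, ?_⟩
  rw [sub_eq_add_neg, add_comm, D.f_add, D.f_neg, ← ha, ← hxy]; group

theorem card_triples [Finite G] {u w q : A} (hu : u ≠ 0) (hw : w ≠ 0) (hq : q ≠ 0)
    (huw : ¬ ((∃ i, sg i (-q) = u) ∧ ∃ i, sg i (-q) = w)) :
    Nat.card {p : G × G // IsConj (D.f u) p.1 ∧ IsConj (D.f w) p.2 ∧ p.1 * p.2 = D.f q} =
      Nat.card {p : A × A // (∃ i, sg i u = p.1) ∧ (∃ i, sg i w = p.2) ∧ p.1 + p.2 = q} := by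
  symm
  apply Nat.card_congr
  refine Equiv.ofBijective (fun p => ⟨(D.f p.1.1, D.f p.1.2), (D.isConj_iff_sg hu).2 p.2.1,
    (D.isConj_iff_sg hw).2 p.2.2.1, ?_⟩) ⟨?_, ?_⟩
  · change D.f p.1.1 * D.f p.1.2 = D.f q
    rw [← D.f_add, p.2.2.2]
  · rintro ⟨⟨a, b⟩, h⟩ ⟨⟨a', b'⟩, h'⟩ heq
    have h1 := congrArg Subtype.val heq
    simp only [Prod.mk.injEq] at h1
    apply Subtype.ext
    simp only [Prod.mk.injEq]
    exact ⟨D.f_inj h1.1, D.f_inj h1.2⟩
  · rintro ⟨⟨x, y⟩, h1, h2, h3⟩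
    simp only at h1 h2 h3
    obtain ⟨a, b, rfl, rfl⟩ := D.triple hq huw h1 h2 h3
    refine ⟨⟨(a, b), (D.isConj_iff_sg hu).1 h1, (D.isConj_iff_sg hw).1 h2, ?_⟩, rfl⟩
    apply D.f_inj
    rw [D.f_add]; exact h3

end TI

end Cfsg.Agent.Tri3
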