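import Mathlib

/-!
# Elements `x, y` with `x³ = y³ = (xy)³ = 1` (the triangle group (3,3,3))
-/

set_option autoImplicit false
set_option linter.unusedSectionVars false

namespace Cfsg.Agent.Tri3

variable {G : Type*} [Group G]

/-- the abelian normal subgroup of `⟨x, y⟩` -/
def lat (x y : G) : Subgroup G := Subgroup.closure {x * y⁻¹, x⁻¹ * y⁻¹ * x⁻¹, y⁻¹ * x}

theorem inv_mul_inv_of_cube {a : G} (h : a ^ 3 = 1) : a⁻¹ * a⁻¹ = a := by
  rw [← mul_inv_rev]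
  apply inv_eq_of_mul_eq_one_left
  rw [← h, pow_succ, pow_two, mul_assoc]

theorem conj_comm' (x : G) {a b : G} (h : a * b = b * a) :
    (x * a * x⁻¹) * (x * b * x⁻¹) = (x * b * x⁻¹) * (x * a * x⁻¹) := by
  have h1 : ∀ a b : G, (x * a * x⁻¹) * (x * b * x⁻¹) = x * (a * b) * x⁻¹ := by intro a b; group
  rw [h1, h1, h]

section

variable {x y : G} (hx : x ^ 3 = 1) (hy : y ^ 3 = 1) (hxy : (x * y) ^ 3 = 1)
include hx hy hxy

theorem lat_rel1 : y⁻¹ * x * (x⁻¹ * y⁻¹ * x⁻¹) * (x * y⁻¹) = 1 := by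
  have : y⁻¹ * x * (x⁻¹ * y⁻¹ * x⁻¹) * (x * y⁻¹) = (y ^ 3)⁻¹ := by
    rw [pow_succ, pow_two]; group
  rw [this, hy, inv_one]

theorem lat_rel2 : x * y⁻¹ * (x⁻¹ * y⁻¹ * x⁻¹) * (y⁻¹ * x) = 1 := by
  have h1 : x * y⁻¹ * (x⁻¹ * y⁻¹ * x⁻¹) * (y⁻¹ * x) = x * ((x * y) ^ 3)⁻¹ * x⁻¹ * (x ^ 3) := by
    simp only [pow_succ, pow_zero, one_mul]; group
  rw [h1, hxy, hx]; group

theorem lat_comm01 : x * y⁻¹ * (x⁻¹ * y⁻¹ * x⁻¹) = x⁻¹ * y⁻¹ * x⁻¹ * (x * y⁻¹) := by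
  have h1 := lat_rel1 hx hy hxy
  have h2 := lat_rel2 hx hy hxy
  have e1 : x⁻¹ * y⁻¹ * x⁻¹ * (x * y⁻¹) = (y⁻¹ * x)⁻¹ := by
    rw [mul_assoc] at h1
    exact (inv_eq_of_mul_eq_one_right h1).symm
  have e2 : x * y⁻¹ * (x⁻¹ * y⁻¹ * x⁻¹) = (y⁻¹ * x)⁻¹ := eq_inv_of_mul_eq_one_left h2
  rw [e1, e2]

theorem conj_a0 : x * (x * y⁻¹) * x⁻¹ = x⁻¹ * y⁻¹ * x⁻¹ := by
  have h : x * x = x⁻¹ := by
    apply eq_inv_of_mul_eq_one_left
    rw [← hx, pow_succ, pow_two]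
  rw [← mul_assoc, h]

theorem conj_a1 : x * (x⁻¹ * y⁻¹ * x⁻¹) * x⁻¹ = y⁻¹ * x := by
  have h : x⁻¹ * x⁻¹ = x := by
    rw [← mul_inv_rev]
    apply inv_eq_of_mul_eq_one_left
    rw [← hx, pow_succ, pow_two, mul_assoc]
  calc x * (x⁻¹ * y⁻¹ * x⁻¹) * x⁻¹ = y⁻¹ * (x⁻¹ * x⁻¹) := by group
    _ = y⁻¹ * x := by rw [h]

theorem conj_a2 : x * (y⁻¹ * x) * x⁻¹ = x * y⁻¹ := by group

theorem lat_comm12 : x⁻¹ * y⁻¹ * x⁻¹ * (y⁻¹ * x) = y⁻¹ * x * (x⁻¹ * y⁻¹ * x⁻¹) := by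
  have h := conj_comm' x (lat_comm01 hx hy hxy)
  rw [conj_a0 hx hy hxy, conj_a1 hx hy hxy] at h
  exact h

theorem lat_comm20 : y⁻¹ * x * (x * y⁻¹) = x * y⁻¹ * (y⁻¹ * x) := by
  have h := conj_comm' x (lat_comm12 hx hy hxy)
  rw [conj_a1 hx hy hxy, conj_a2 hx hy hxy] at h
  exact h

theorem lat_comm : IsMulCommutative (lat x y) := by
  apply Subgroup.isMulCommutative_closure
  have h01 := lat_comm01 hx hy hxy
  have h12 := lat_comm12 hx hy hxy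
  have h20 := lat_comm20 hx hy hxy
  intro a ha b hb
  simp only [Set.mem_insert_iff, Set.mem_singleton_iff] at ha hb
  rcases ha with rfl | rfl | rfl <;> rcases hb with rfl | rfl | rfl <;>
    first | rfl | exact h01 | exact h01.symm | exact h12 | exact h12.symm | exact h20 | exact h20.symm

theorem lat_conj_x {a : G} (ha : a ∈ lat x y) : x * a * x⁻¹ ∈ lat x y := by
  have h0 := conj_a0 hx hy hxy
  have h1 := conj_a1 hx hy hxy
  have h2 := conj_a2 hx hy hxy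
  have : lat x y ≤ (lat x y).comap (MulAut.conj x).toMonoidHom := by
    conv_lhs => rw [lat]
    rw [Subgroup.closure_le]
    intro b hb
    simp only [Set.mem_insert_iff, Set.mem_singleton_iff] at hb
    rw [SetLike.mem_coe, Subgroup.mem_comap]
    change x * b * x⁻¹ ∈ lat x y
    rcases hb with rfl | rfl | rfl
    · rw [h0]; exact Subgroup.subset_closure (by simp)
    · rw [h1]; exact Subgroup.subset_closure (by simp)
    · rw [h2]; exact Subgroup.subset_closure (by simp)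
  exact this ha

theorem a0_mem : x * y⁻¹ ∈ lat x y := Subgroup.subset_closure (by simp)
theorem a1_mem : x⁻¹ * y⁻¹ * x⁻¹ ∈ lat x y := Subgroup.subset_closure (by simp)
theorem a2_mem : y⁻¹ * x ∈ lat x y := Subgroup.subset_closure (by simp)

theorem lat_conj_y {a : G} (ha : a ∈ lat x y) : y * a * y⁻¹ ∈ lat x y := by
  have h : y = (x * y⁻¹)⁻¹ * x := by group
  have h2 : y * a * y⁻¹ = (x * y⁻¹)⁻¹ * (x * a * x⁻¹) * (x * y⁻¹) := by
    group
  rw [h2]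
  exact Subgroup.mul_mem _ (Subgroup.mul_mem _ (Subgroup.inv_mem _ (a0_mem hx hy hxy)) (lat_conj_x hx hy hxy ha)) (a0_mem hx hy hxy)

end

/-- in an abelian group of order prime to 3 acted on by `x` with `x³ = 1`: `u u^x u^(x²) = 1` implies that `u x` is
conjugate to `x`. -/
theorem isConj_of_norm {x u v : G} {n : ℕ} (hn : u ^ (3 * n) = u) (hc : u * v = v * u)
    (hv : x * u * x⁻¹ = v) (hN : u * v * (x * v * x⁻¹) = 1) : IsConj x (u * x) := by
  -- `m (x m⁻¹ x⁻¹) = u` for `m = (u² v)ⁿ`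
  have hC : Commute u v := hc
  have hw : x * v * x⁻¹ = v⁻¹ * u⁻¹ := by
    rw [eq_comm, ← mul_inv_rev]; exact inv_eq_of_mul_eq_one_right hN
  rw [isConj_iff]
  refine ⟨(u ^ 2 * v) ^ n, ?_⟩
  have h1 : x * (u ^ 2 * v) * x⁻¹ = v ^ 2 * (v⁻¹ * u⁻¹) := by
    calc x * (u ^ 2 * v) * x⁻¹ = (x * u * x⁻¹) ^ 2 * (x * v * x⁻¹) := by
          rw [conj_pow]; group
      _ = _ := by rw [hv, hw]
  have h2 : x * ((u ^ 2 * v) ^ n)⁻¹ * x⁻¹ = ((v ^ 2 * (v⁻¹ * u⁻¹)) ^ n)⁻¹ := by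
    rw [← h1, conj_pow]; group
  have h3 : (u ^ 2 * v) ^ n * ((v ^ 2 * (v⁻¹ * u⁻¹)) ^ n)⁻¹ = u := by
    have e1 : v ^ 2 * (v⁻¹ * u⁻¹) = v * u⁻¹ := by
      rw [pow_two]; group
    have hC2 : Commute v u⁻¹ := hC.symm.inv_right
    have hC3 : Commute (u ^ 2) v := hC.pow_left 2
    rw [e1, hC2.mul_pow, hC3.mul_pow]
    have e2 : (v ^ n * u⁻¹ ^ n)⁻¹ = u ^ n * (v ^ n)⁻¹ := by
      rw [mul_inv_rev, inv_pow, inv_inv]
    rw [e2]
    have hC4 : Commute (v ^ n) (u ^ n) := (hC.symm.pow_left n).pow_right n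
    calc (u ^ 2) ^ n * v ^ n * (u ^ n * (v ^ n)⁻¹) = (u ^ 2) ^ n * (v ^ n * u ^ n) * (v ^ n)⁻¹ := by group
      _ = (u ^ 2) ^ n * (u ^ n * v ^ n) * (v ^ n)⁻¹ := by rw [hC4.eq]
      _ = (u ^ 2) ^ n * u ^ n := by group
      _ = u ^ (3 * n) := by rw [← pow_mul, ← pow_add]; congr 1; ring
      _ = u := hn
  calc (u ^ 2 * v) ^ n * x * ((u ^ 2 * v) ^ n)⁻¹ = (u ^ 2 * v) ^ n * (x * ((u ^ 2 * v) ^ n)⁻¹ * x⁻¹) * x := by group
    _ = (u ^ 2 * v) ^ n * ((v ^ 2 * (v⁻¹ * u⁻¹)) ^ n)⁻¹ * x := by rw [h2]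
    _ = u * x := by rw [h3]

/-- The dichotomy for elements with `x³ = y³ = (xy)³ = 1`. -/
theorem dichotomy [Finite G] {x y : G} (hx : x ^ 3 = 1) (hy : y ^ 3 = 1) (hxy : (x * y) ^ 3 = 1) :
    (IsConj x y ∧ IsConj x (x * y)⁻¹) ∨
      ∃ r : G, r ∈ lat x y ∧ r ≠ 1 ∧ r ^ 3 = 1 ∧ x * r = r * x ∧ r * (y * r * y⁻¹) = y * r * y⁻¹ * r ∧
        (y * r * y⁻¹) ^ 3 = 1 := by
  have hcomm := lat_comm hx hy hxy
  have hcc : ∀ a ∈ lat x y, ∀ b ∈ lat x y, a * b = b * a := fun a ha b hb =>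
    congrArg Subtype.val (hcomm.is_comm.comm ⟨a, ha⟩ ⟨b, hb⟩)
  by_cases h3 : 3 ∣ Nat.card (lat x y)
  · right
    obtain ⟨⟨r, hrm⟩, hr⟩ := exists_prime_orderOf_dvd_card' (G := lat x y) 3 h3
    have hr3 : r ^ 3 = 1 := by
      have h := pow_orderOf_eq_one (⟨r, hrm⟩ : lat x y)
      rw [hr] at h
      exact congrArg Subtype.val h
    have hr1 : r ≠ 1 := by
      intro h
      subst h
      have : (⟨1, hrm⟩ : lat x y) = 1 := rfl
      rw [this, orderOf_one] at hr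
      omega
    -- a fixed point
    obtain ⟨s, hs, hs1, hs3, hxs⟩ : ∃ s ∈ lat x y, s ≠ 1 ∧ s ^ 3 = 1 ∧ x * s * x⁻¹ = s := by
      have hr' := lat_conj_x hx hy hxy hrm
      have hr'' := lat_conj_x hx hy hxy hr'
      have hx4 : x * (x * (x * r * x⁻¹) * x⁻¹) * x⁻¹ = r := by
        have : x * (x * (x * r * x⁻¹) * x⁻¹) * x⁻¹ = x ^ 3 * r * (x ^ 3)⁻¹ := by
          simp only [pow_succ, pow_zero, one_mul]; group
        rw [this, hx]; group
      set r1 := x * r * x⁻¹ with hr1d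
      set r2 := x * r1 * x⁻¹ with hr2d
      have hr13 : r1 ^ 3 = 1 := by rw [hr1d, conj_pow, hr3]; group
      have hr23 : r2 ^ 3 = 1 := by rw [hr2d, conj_pow, hr13]; group
      have c1 := hcc r hrm r1 hr'
      have c2 := hcc r hrm r2 hr''
      have c3 := hcc r1 hr' r2 hr''
      by_cases hN : r * r1 * r2 = 1
      · by_cases hf : r1 = r
        · exact ⟨r, hrm, hr1, hr3, hf⟩
        · refine ⟨r1 * r⁻¹, Subgroup.mul_mem _ hr' (Subgroup.inv_mem _ hrm), ?_, ?_, ?_⟩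
          · intro h; exact hf (mul_inv_eq_one.1 h)
          · have : Commute r1 r⁻¹ := (show Commute r1 r from c1.symm).inv_right
            rw [this.mul_pow, hr13, inv_pow, hr3, inv_one, mul_one]
          · have e1 : x * (r1 * r⁻¹) * x⁻¹ = r2 * r1⁻¹ := by rw [hr2d, hr1d]; group
            rw [e1]
            have e2 : r2 = r1⁻¹ * r⁻¹ := by
              have := inv_eq_of_mul_eq_one_right hN
              rw [← this]; group
            have e3 : r1⁻¹ * r1⁻¹ = r1 := inv_mul_inv_of_cube hr13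
            have c4 : Commute r⁻¹ r1⁻¹ := ((show Commute r r1 from c1).inv_left).inv_right
            rw [e2]
            calc r1⁻¹ * r⁻¹ * r1⁻¹ = r1⁻¹ * (r⁻¹ * r1⁻¹) := by group
              _ = r1⁻¹ * (r1⁻¹ * r⁻¹) := by rw [c4.eq]
              _ = r1⁻¹ * r1⁻¹ * r⁻¹ := by group
              _ = r1 * r⁻¹ := by rw [e3]
      · refine ⟨r * r1 * r2, Subgroup.mul_mem _ (Subgroup.mul_mem _ hrm hr') hr'', hN, ?_, ?_⟩
        · have k1 : Commute r r1 := c1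
          have k2 : Commute (r * r1) r2 := (show Commute r r2 from c2).mul_left c3
          rw [k2.mul_pow, k1.mul_pow, hr3, hr13, hr23, one_mul, one_mul]
        · have e1 : x * (r * r1 * r2) * x⁻¹ = r1 * r2 * (x * r2 * x⁻¹) := by rw [hr2d, hr1d]; group
          rw [e1, hx4]
          have k2 : Commute (r1 * r2) r := ((show Commute r r1 from c1).symm).mul_left (show Commute r r2 from c2).symm
          rw [k2.eq]; group
    refine ⟨s, hs, hs1, hs3, ?_, ?_, ?_⟩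
    · calc x * s = x * s * x⁻¹ * x := by group
        _ = s * x := by rw [hxs]
    · exact hcc s hs _ (lat_conj_y hx hy hxy hs)
    · rw [conj_pow, hs3]; group
  · left
    -- inverse of 3 modulo the order
    have hcop : Nat.Coprime 3 (Nat.card (lat x y)) := (Nat.Prime.coprime_iff_not_dvd Nat.prime_three).2 h3
    obtain ⟨n, hn⟩ : ∃ n : ℕ, ∀ u ∈ lat x y, u ^ (3 * n) = u := by
      rcases Nat.lt_or_ge 1 (Nat.card (lat x y)) with h | h
      · obtain ⟨n, -, hn⟩ := Nat.exists_mul_mod_eq_one_of_coprime hcop h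
        refine ⟨n, fun u hu => ?_⟩
        have h1 : (⟨u, hu⟩ : lat x y) ^ (3 * n) = ⟨u, hu⟩ := by
          rw [← pow_mod_natCard, hn, pow_one]
        exact congrArg Subtype.val h1
      · refine ⟨0, fun u hu => ?_⟩
        have hb : lat x y = ⊥ := (Subgroup.card_le_one_iff_eq_bot _).1 h
        rw [hb, Subgroup.mem_bot] at hu
        rw [hu]; simp
    have m0 := a0_mem hx hy hxy
    have m1 := a1_mem hx hy hxy
    have m2 := a2_mem hx hy hxy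
    have c0 := conj_a0 hx hy hxy
    have c1 := conj_a1 hx hy hxy
    have c2 := conj_a2 hx hy hxy
    have r1 := lat_rel1 hx hy hxy
    have r2 := lat_rel2 hx hy hxy
    have eI : ∀ a : G, x * a⁻¹ * x⁻¹ = (x * a * x⁻¹)⁻¹ := by intro a; group
    constructor
    · have hy' : y = (x * y⁻¹)⁻¹ * x := by group
      have key : IsConj x ((x * y⁻¹)⁻¹ * x) := by
        refine isConj_of_norm (v := (x⁻¹ * y⁻¹ * x⁻¹)⁻¹) (n := n) (hn _ (Subgroup.inv_mem _ m0)) ?_ ?_ ?_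
        · exact hcc _ (Subgroup.inv_mem _ m0) _ (Subgroup.inv_mem _ m1)
        · rw [eI, c0]
        · rw [eI, c1]
          have e2 : (x * y⁻¹)⁻¹ * (x⁻¹ * y⁻¹ * x⁻¹)⁻¹ * (y⁻¹ * x)⁻¹
              = (y⁻¹ * x * (x⁻¹ * y⁻¹ * x⁻¹) * (x * y⁻¹))⁻¹ := by
            simp only [mul_inv_rev, mul_assoc]
          rw [e2, r1, inv_one]
      rw [← hy'] at key
      exact key
    · have hz : (y⁻¹ * x) * x = (x * y)⁻¹ := by
        have : x * x = x⁻¹ := by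
          apply eq_inv_of_mul_eq_one_left
          rw [← hx, pow_succ, pow_two]
        rw [mul_assoc, this, mul_inv_rev]
      rw [← hz]
      refine isConj_of_norm (v := x * y⁻¹) (n := n) (hn _ m2) ?_ ?_ ?_
      · exact hcc _ m2 _ m0
      · exact c2
      · rw [c0, mul_assoc, hcc _ m0 _ m1, ← mul_assoc]; exact r1

end Cfsg.Agent.Tri3
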